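import Groth.Agent.H10Coh.Proj.Coherent
import Groth.Agent.H10Coh.Descend
import Groth.Agent.H10Coh.Pn.TopShift
import Groth.Agent.H10Coh.Pn.Results

/-!
# Finiteness of the cohomology of coherent modules on `P^n_R`
-/

set_option autoImplicit false

universe u

open CategoryTheory CategoryTheory.Limits AlgebraicGeometry TopologicalSpace Opposite MvPolynomial
open Groth.Agent.H11Tilde

namespace Groth.Agent.H10Coh.Pn

attribute [local instance 10000] hasSheafifyAb hasWeakSheafifyAb hasExtAb enoughInjAb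

variable {R : Type u} [CommRing R] [IsNoetherianRing R]

/-- Homogeneous polynomials of fixed degree form a finite module. -/
theorem finite_homogeneous (n k : ℕ) : Module.Finite R ↥(homogeneousSubmodule (Fin (n + 1)) R k) := by
  classical
  have hle : homogeneousSubmodule (Fin (n + 1)) R k ≤
      Submodule.span R (Set.range fun f : Fin (n + 1) → Fin (k + 1) =>
        monomial (Finsupp.equivFunOnFinite.symm fun i => (f i : ℕ)) (1 : R)) := by
    intro p hp
    rw [p.as_sum]
    refine Submodule.sum_mem _ fun e he => ?_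
    have hd : e.degree = k := by
      rw [Finsupp.degree_eq_weight_one]
      exact hp (mem_support_iff.1 he)
    rw [show monomial e (coeff e p) = coeff e p • monomial e (1 : R) by rw [smul_monomial, smul_eq_mul, mul_one]]
    refine Submodule.smul_mem _ _ (Submodule.subset_span ⟨fun i => ⟨e i, Nat.lt_succ_of_le ?_⟩, ?_⟩)
    · exact hd ▸ Finsupp.le_degree i e
    · exact congrArg (fun v => monomial v (1 : R)) (Finsupp.ext fun i => rfl)
  have : IsNoetherian R ↥(Submodule.span R (Set.range fun f : Fin (n + 1) → Fin (k + 1) =>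
      monomial (Finsupp.equivFunOnFinite.symm fun i => (f i : ℕ)) (1 : R))) :=
    isNoetherian_of_fg_of_noetherian _ (Submodule.fg_span (Set.finite_range _))
  exact Module.Finite.of_fg ((isNoetherian_submodule.1 this) _ hle)

theorem finite_badSub (n : ℕ) (d : ℤ) : Module.Finite R ↥(badSub R d n) := by
  by_cases h : d ≤ -((n : ℤ) + 1)
  · obtain ⟨k, hk⟩ : ∃ k : ℕ, d = -((n : ℤ) + 1 + k) := ⟨(-((n : ℤ) + 1) - d).toNat, by omega⟩
    subst hk
    haveI := finite_homogeneous (R := R) n k
    exact Module.Finite.of_surjective (homToBad n k) (homToBad_bijective n k).2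
  · refine Module.Finite.of_surjective (0 : R →ₗ[R] ↥(badSub R d n)) fun z => ⟨0, Subtype.ext ?_⟩
    refine AddMonoidAlgebra.ext (Finsupp.ext fun e => ?_)
    by_contra hne
    obtain ⟨hb, hd⟩ := z.2 e (Ne.symm hne)
    have : ∑ i : Fin (n + 1), e i ≤ ∑ _i : Fin (n + 1), (-1 : ℤ) := Finset.sum_le_sum fun i _ => by
      have := hb i
      omega
    simp only [Finset.sum_const, Finset.card_univ, Fintype.card_fin, nsmul_eq_mul] at this
    simp only [deg] at hd
    push_cast at this
    omega

theorem finH_Od (n : ℕ) (d : ℤ) (q : ℕ) :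
    letI : (Proj (Gr n R)).Over (Spec (CommRingCat.of R)) := ⟨toS n R⟩
    FinH (globA (A := R) (X := Proj (Gr n R))) (Od n R d) q ⊤ := by
  letI : (Proj (Gr n R)).Over (Spec (CommRingCat.of R)) := ⟨toS n R⟩
  refine (finite_HH_iff_finH _ q).1 ?_
  by_cases h0 : q = 0 ∧ 0 ≤ d
  · obtain ⟨rfl, hd⟩ := h0
    obtain ⟨k, rfl⟩ := Int.eq_ofNat_of_zero_le hd
    haveI := finite_homogeneous (R := R) n k
    haveI : Module.Finite R ↥(allowedSub R (k : ℤ) (∅ : Set (Fin (n + 1)))) :=
      Module.Finite.of_surjective (homToAllowed n R k) (homToAllowed_bijective k).2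
    exact Module.Finite.equiv (LinearEquiv.ofBijective (HH0Od n R k) (HH0Od_bijective k)).symm
  by_cases hn : q = n ∧ d ≤ -((n : ℤ) + 1)
  · obtain ⟨rfl, hd⟩ := hn
    haveI := finite_badSub (R := R) q d
    cases q with
    | zero =>
      exact Module.Finite.equiv (LinearEquiv.ofBijective (HHzeroBad R d (by omega)) (HHzeroBad_bijective R d (by omega))).symm
    | succ p =>
      exact Module.Finite.equiv (LinearEquiv.ofBijective (HHtopBad p R d) (HHtopBad_bijective p R d)).symm
  have := subsingleton_HH_Od (R := R) (d := d) q h0 hn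
  exact Module.Finite.of_surjective (0 : R →ₗ[R] Coh.HH (Proj (Gr n R)) (Od n R d) q)
    fun z => ⟨0, Subsingleton.elim _ _⟩

theorem finH_proj (n : ℕ) (F : (Proj (Gr n R)).Modules) (hF : Coh.IsCoh F) (q : ℕ) :
    letI : (Proj (Gr n R)).Over (Spec (CommRingCat.of R)) := ⟨toS n R⟩
    FinH (globA (A := R) (X := Proj (Gr n R))) F q ⊤ := by
  letI : (Proj (Gr n R)).Over (Spec (CommRingCat.of R)) := ⟨toS n R⟩
  haveI : IsNoetherianRing (MvPolynomial (Fin (n + 1)) R) := inferInstance
  haveI : IsNoetherian (Proj (Gr n R)) := ProjQ.isNoetherian_proj (Gr n R)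
  refine finH_of_quotients _ ⊤ n (fun G hG p hp => @subsingleton_HnM_proj n R _ G hG.1 p hp) (fun G hG => ?_) F hF q
  obtain ⟨r, d, ψ, hψ⟩ := ProjQ.exists_epi_twists (Gr n R) (IsNoetherian.noetherian _) G hG
  exact ⟨_, ψ, hψ, isCoh_sigma _ fun i => ProjQ.isCoh_tilde_twist (Gr n R) (d i),
    fun p => finH_sigma _ _ fun i => finH_Od n (d i) p⟩

theorem finite_HH_projSpace (n : ℕ) (F : (CohB1.ProjSpace n R).Modules) (hF : Coh.IsCoh F) (q : ℕ) :
    Module.Finite R (Coh.HH (CohB1.ProjSpace n R) F q) := by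
  exact (finite_HH_iff_finH F q).2 (finH_proj n F hF q)

end Groth.Agent.H10Coh.Pn
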