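import Groth.Agent.H10Coh.AffinePush
import Groth.Agent.H10Coh.Proj.PnFinite
import Groth.Agent.H11Ample.Converse
import Mathlib.AlgebraicGeometry.ProjectiveSpectrum.Proper

/-!
# Proper schemes with an affine morphism to a projective space have finite cohomology
-/

set_option autoImplicit false
set_option linter.style.haveILetI false

universe u

open CategoryTheory CategoryTheory.Limits AlgebraicGeometry TopologicalSpace Opposite
open Groth.Agent.H11Tilde

namespace Groth.Agent.H10Coh

attribute [local instance 10000] hasSheafifyAb hasWeakSheafifyAb hasExtAb enoughInjAb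

/-- The map to global functions attached to a morphism to an affine scheme. -/
noncomputable def toΓ {X : Scheme.{u}} {A : Type u} [CommRing A] (q : X ⟶ Spec (CommRingCat.of A)) :
    A →+* Γ(X, ⊤) :=
  Coh.toGlobal q

theorem toΓ_comp {X Y : Scheme.{u}} {A : Type u} [CommRing A] (f : X ⟶ Y) (q : Y ⟶ Spec (CommRingCat.of A)) :
    toΓ (f ≫ q) = f.appTop.hom.comp (toΓ q) := by
  ext a
  exact congr($(Scheme.Hom.comp_appTop f q) ((Scheme.ΓSpecIso (CommRingCat.of A)).inv a))

variable {X : Scheme.{u}} {A : Type u} [CommRing A]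

theorem isSeparated_toSpec (n : ℕ) : IsSeparated (CohB1.ProjSpace.toSpec n A) := by
  haveI : IsSeparated (Proj.toSpecZero (CohB1.polyGrading n A)) := inferInstance
  exact MorphismProperty.comp_mem _ _ _ this inferInstance

/-- An affine morphism to some projective space gives a finite one to `P^n_A`. -/
theorem exists_finite_toPn (q : X ⟶ Spec (CommRingCat.of A)) [IsProper q] {n : ℕ} {R₀ : Type u} [CommRing R₀]
    (g : X ⟶ CohB1.ProjSpace n R₀) [IsAffineHom g] :
    ∃ r : X ⟶ CohB1.ProjSpace n A, IsFinite r ∧ r ≫ CohB1.ProjSpace.toSpec n A = q := by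
  let L := (Scheme.Modules.pullback g).obj (Twist.twistProjSpace n R₀ 1)
  let v : Fin (n + 1) → Γ(L, ⊤) := fun i => H11Ample.pullTop g (L := Twist.twistProjSpace n R₀ 1) (ProjUP.coord n R₀ i)
  have hgen : ∀ i, H11Ample.gen L (v i) = g ⁻¹ᵁ Proj.basicOpen (CohB1.polyGrading n R₀) (MvPolynomial.X i) :=
    fun i => by
      have := H11Ample.gen_smul_pullSect g (H11Ample.isInvertible_twist (n := n) (R := R₀)) (ProjUP.coord n R₀ i)
        (isUnit_one (M := Γ(X, ⊤)))
      rw [one_smul, H11Ample.gen_coord] at this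
      exact this
  have hv : ∀ x, ∃ i, x ∈ H11Ample.gen L (v i) := fun x => by
    obtain ⟨i, hi⟩ := H11Ample.exists_mem_basicOpen_X (g x)
    exact ⟨i, by rw [hgen]; exact hi⟩
  obtain ⟨r, hr, -, hpre, -⟩ := H11Ample.exists_toPn q
    (H11Ample.isInvertible_pullback g H11Ample.isInvertible_twist) v hv
  haveI : IsSeparated (CohB1.ProjSpace.toSpec n A) := isSeparated_toSpec n
  haveI : IsProper (r ≫ CohB1.ProjSpace.toSpec n A) := hr ▸ ‹IsProper q›
  haveI hp : IsProper r := IsProper.of_comp r (CohB1.ProjSpace.toSpec n A)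
  have ha : IsAffineHom r := by
    refine isAffineHom_of_forall_exists_isAffineOpen r fun y => ?_
    obtain ⟨i, hi⟩ := H11Ample.exists_mem_basicOpen_X y
    refine ⟨_, hi, Proj.isAffineOpen_basicOpen (CohB1.polyGrading n A) _ (H11Ample.X_mem i) one_pos, ?_⟩
    rw [hpre i, hgen i]
    exact IsAffineHom.isAffine_preimage _
      (Proj.isAffineOpen_basicOpen (CohB1.polyGrading n R₀) _ (H11Ample.X_mem i) one_pos)
  exact ⟨r, IsFinite.iff_isProper_and_isAffineHom.2 ⟨hp, ha⟩, hr⟩

variable [IsNoetherianRing A]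

theorem finH_of_finite_toPn {n : ℕ} (r : X ⟶ CohB1.ProjSpace n A) [IsFinite r] (M : X.Modules)
    (hM : Coh.IsCoh M) (p : ℕ) :
    FinH (toΓ (r ≫ CohB1.ProjSpace.toSpec n A)) M p ⊤ := by
  haveI : M.IsQuasicoherent := hM.1
  have h := Pn.finH_proj n ((Coh.push r).obj M) (isCoh_push_of_isFinite r M hM) p
  rw [toΓ_comp]
  exact (finH_push_iff r M (toΓ (CohB1.ProjSpace.toSpec n A)) p ⊤).1 h

/-- Coherent cohomology of a proper scheme with an affine morphism to projective space is finite. -/
theorem finH_of_affine_toPn (q : X ⟶ Spec (CommRingCat.of A)) [IsProper q] {n : ℕ} {R₀ : Type u}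
    [CommRing R₀] (g : X ⟶ CohB1.ProjSpace n R₀) [IsAffineHom g] (M : X.Modules) (hM : Coh.IsCoh M) (p : ℕ) :
    FinH (toΓ q) M p ⊤ := by
  obtain ⟨r, hr, rfl⟩ := exists_finite_toPn q g
  haveI := hr
  exact finH_of_finite_toPn r M hM p

end Groth.Agent.H10Coh
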