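import Groth.Agent.H10Coh.Proj.TwistQuot
import Groth.Agent.H10Coh.SubMod
import Groth.Agent.S2357

/-!
# Twists and finite sums are coherent
-/

set_option autoImplicit false

noncomputable section

universe u

open CategoryTheory CategoryTheory.Limits AlgebraicGeometry Opposite TopologicalSpace
open Groth.Agent.H11Tilde GrMod

namespace Groth.Agent.H10Coh

/-- A finite sum of coherent modules is coherent. -/
theorem isCoh_sigma {X : Scheme.{u}} {r : ℕ} (M : Fin r → X.Modules) (hM : ∀ i, Coh.IsCoh (M i)) :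
    Coh.IsCoh (∐ M) := by
  have hq : (∐ fun i : ULift.{u} (Fin r) => M i.down).IsQuasicoherent :=
    isQuasicoherent_coproduct (fun i : ULift.{u} (Fin r) => M i.down) fun i => (hM i.down).1
  let e : (∐ fun i : ULift.{u} (Fin r) => M i.down) ≅ ∐ M :=
    Sigma.whiskerEquiv Equiv.ulift fun i => Iso.refl _
  have hq' : (∐ M).IsQuasicoherent :=
    ((SheafOfModules.isQuasicoherent X.ringCatSheaf).prop_of_iso e hq :)
  refine (isCoh_iff_finite_sections _).2 ⟨hq', fun U hU => ?_⟩
  haveI : ∀ i, Module.Finite Γ(X, U) Γ(M i, U) := fun i => ((isCoh_iff_finite_sections _).1 (hM i)).2 U hU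
  let ι' : ∀ i, Γ(M i, U) →ₗ[Γ(X, U)] Γ(∐ M, U) := fun i =>
    { toFun := (Sigma.ι M i).app U
      map_add' := map_add _
      map_smul' := fun c x => Scheme.Modules.Hom.app_smul _ _ _ }
  refine Module.Finite.of_surjective (∑ i, (ι' i).comp (LinearMap.proj i) : (∀ i, Γ(M i, U)) →ₗ[Γ(X, U)] _)
    fun x => ⟨fun i => (biproduct.π M i).app U ((biproduct.isoCoproduct M).inv.app U x), ?_⟩
  rw [LinearMap.sum_apply]
  change ∑ i, (Sigma.ι M i).app U ((biproduct.π M i).app U ((biproduct.isoCoproduct M).inv.app U x)) = x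
  have h : ∑ i, (biproduct.isoCoproduct M).inv ≫ biproduct.π M i ≫ Sigma.ι M i = 𝟙 (∐ M) := by
    have hι : ∀ i, Sigma.ι M i = biproduct.ι M i ≫ (biproduct.isoCoproduct M).hom := fun i => by
      rw [biproduct.isoCoproduct_hom, biproduct.ι_desc]
    simp only [hι, ← Category.assoc (biproduct.π M _)]
    rw [← Preadditive.comp_sum, ← Preadditive.sum_comp, biproduct.total, Category.id_comp, Iso.inv_hom_id]
  exact (app_sum_apply (fun i => (biproduct.isoCoproduct M).inv ≫ biproduct.π M i ≫ Sigma.ι M i) U x).symm.trans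
    (congrArg (fun k : (∐ M) ⟶ (∐ M) => k.app U x) h)

namespace ProjQ

variable {R A : Type u} [CommRing R] [CommRing A] [Algebra R A] (𝒜 : ℕ → Submodule R A) [GradedAlgebra 𝒜]
  [IsNoetherianRing A]

/-- Proj of a Noetherian graded ring is Noetherian. -/
theorem isNoetherian_proj : IsNoetherian (Proj 𝒜) := S2357.result 𝒜

theorem isCoh_tilde_twist (d : ℤ) : Coh.IsCoh (tilde 𝒜 𝒜 d) := by
  classical
  haveI := tilde_isQuasicoherent 𝒜 𝒜 d
  have hfg : (HomogeneousIdeal.irrelevant 𝒜).toIdeal.FG := IsNoetherian.noetherian _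
  obtain ⟨D, ι, hι, g, hD, hg, hcov⟩ := exists_cover_single_degree 𝒜 hfg
  refine ⟨inferInstance, (isFT_isFP_of_affineCover _ (fun i : ι => Proj.basicOpen 𝒜 (g i)) ?_
    (fun i => Proj.isAffineOpen_basicOpen 𝒜 _ (hg i) hD) fun i => ?_).1⟩
  · refine eq_top_iff.2 fun x _ => Opens.mem_iSup.2 ?_
    exact hcov x
  · exact finite_sections_basicOpen 𝒜 𝒜 hfg ⟨0, IsNoetherian.noetherian _⟩ d hD (hg i)

end ProjQ

end Groth.Agent.H10Coh
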