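import Groth.Agent.H10Coh.GenHom
import Groth.Agent.H10Coh.FinType2
import Groth.Agent.H11Tilde.TwistPow
import Groth.Agent.H11Tilde.FinType
import Groth.Agent.H11Proj.Graded
import Groth.Agent.H11Tilde.GammaStar.Ratio

/-!
# Coherent modules on Proj are quotients of finite sums of twists
-/

set_option autoImplicit false

noncomputable section

universe u

open CategoryTheory CategoryTheory.Limits AlgebraicGeometry Opposite TopologicalSpace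
open Groth.Agent.H11Tilde GrMod

namespace Groth.Agent.H10Coh.ProjQ

variable {A σA : Type u} [CommRing A] [SetLike σA A] [AddSubgroupClass σA A] (𝒜 : ℕ → σA) [GradedRing 𝒜]

/-- The function `b / a` on `D₊(a)` for two elements of the same degree. -/
def ratioEq {D : ℕ} {a b : A} (ha : a ∈ 𝒜 D) (hb : b ∈ 𝒜 D) : Γ(Proj 𝒜, Proj.basicOpen 𝒜 a) :=
  Proj.awayToSection 𝒜 a (HomogeneousLocalization.Away.mk 𝒜 ha 1 b (by simpa using hb))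

theorem fval_ratioEq {D : ℕ} {a b : A} (ha : a ∈ 𝒜 D) (hb : b ∈ 𝒜 D) (x : Proj.basicOpen 𝒜 a) :
    fval 𝒜 (ratioEq 𝒜 ha hb) x = Localization.mk b ⟨a, x.2⟩ := by
  rw [ratioEq, fval_awayToSection 𝒜 ha 1 b (by simpa using hb) x]
  exact congrArg (Localization.mk b) (Subtype.ext (pow_one a))

theorem basicOpen_ratioEq {D : ℕ} {a b : A} (ha : a ∈ 𝒜 D) (hb : b ∈ 𝒜 D) :
    (Proj 𝒜).basicOpen (ratioEq 𝒜 ha hb) = Proj.basicOpen 𝒜 a ⊓ Proj.basicOpen 𝒜 b := by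
  rw [← Proj.basicOpen_mul, basicOpen_eq_of_fval 𝒜 (k := 1) (a := b) (ratioEq 𝒜 ha hb) fun x hx => ?_]
  rw [fval_ratioEq]
  exact congrArg (Localization.mk b) (Subtype.ext (pow_one a).symm)

/-- The free generator `1 / a ^ k` of `O(-kD)` on `D₊(a)`. -/
def invGen {D : ℕ} {a : A} (ha : a ∈ 𝒜 D) (k : ℕ) :
    Γ(tilde 𝒜 𝒜 (-((k * D : ℕ) : ℤ)), Proj.basicOpen 𝒜 a) :=
  secOf 𝒜 𝒜 (SetLike.one_mem_graded 𝒜) (SetLike.pow_mem_graded k ha) (V := Proj.basicOpen 𝒜 a)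
    (fun _ hx => pow_notMem 𝒜 hx k) (by simp)

theorem sval_invGen {D : ℕ} {a : A} (ha : a ∈ 𝒜 D) (k : ℕ) (x : Proj.basicOpen 𝒜 a) :
    sval 𝒜 𝒜 (invGen 𝒜 ha k) x = fracAt 𝒜 x.1 1 (a ^ k) (pow_notMem 𝒜 x.2 k) := rfl

theorem isFreeGen_invGen {D : ℕ} {a : A} (ha : a ∈ 𝒜 D) (k : ℕ) :
    IsFreeGen (tilde 𝒜 𝒜 (-((k * D : ℕ) : ℤ))) (invGen 𝒜 ha k) := fun V hV => by
  refine bijective_smul_gen 𝒜 (SetLike.one_mem_graded 𝒜) (SetLike.pow_mem_graded k ha)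
    (fun x _ => one_notMem 𝒜 x) (fun x hx => pow_notMem 𝒜 (hV hx) k) ?_ _ fun x => ?_
  · simp
  · rfl

theorem invGen_change {D : ℕ} {a b : A} (ha : a ∈ 𝒜 D) (hb : b ∈ 𝒜 D) (k : ℕ) (V : (Proj 𝒜).Opens)
    (hVa : V ≤ Proj.basicOpen 𝒜 a) (hVb : V ≤ Proj.basicOpen 𝒜 b) :
    (tilde 𝒜 𝒜 (-((k * D : ℕ) : ℤ))).presheaf.map (homOfLE hVa).op (invGen 𝒜 ha k) =
      (Proj 𝒜).presheaf.map (homOfLE hVa).op (ratioEq 𝒜 ha hb) ^ k •
        (tilde 𝒜 𝒜 (-((k * D : ℕ) : ℤ))).presheaf.map (homOfLE hVb).op (invGen 𝒜 hb k) := by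
  refine sval_ext 𝒜 𝒜 fun x => ?_
  rw [sval_smul, sval_map, sval_map, sval_invGen, sval_invGen, fval_pow, fval_map, fval_ratioEq, Localization.mk_pow]
  refine Eq.trans ?_ (LocalizedModule.mk_smul_mk _ _ _ _).symm
  refine fracAt_eq_of 𝒜 x.1 (pow_notMem 𝒜 (hVa x.2) k)
    (mul_notMem 𝒜 (pow_notMem 𝒜 (hVa x.2) k) (pow_notMem 𝒜 (hVb x.2) k)) ?_
  simp [smul_eq_mul]

/-- A section over a standard open is hit by a morphism from a twist. -/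
theorem exists_hom_twist (F : (Proj 𝒜).Modules) (hF : Coh.IsQCoh F) {D : ℕ} (hD : 0 < D) {ι : Type*} [Finite ι]
    (g : ι → A) (hg : ∀ i, g i ∈ 𝒜 D) (hcov : ∀ x : Proj 𝒜, ∃ i, g i ∉ x.asHomogeneousIdeal)
    (i : ι) (σ : Γ(F, Proj.basicOpen 𝒜 (g i))) :
    ∃ (d : ℤ) (φ : tilde 𝒜 𝒜 d ⟶ F) (a : Γ(tilde 𝒜 𝒜 d, Proj.basicOpen 𝒜 (g i))),
      φ.app (Proj.basicOpen 𝒜 (g i)) a = σ := by
  obtain ⟨k, v, hvi, hv⟩ := exists_compat_extension F hF (fun j => Proj.basicOpen 𝒜 (g j))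
    (fun j => Proj.isAffineOpen_basicOpen 𝒜 _ (hg j) hD) (fun j l => ratioEq 𝒜 (hg j) (hg l))
    (fun j l => basicOpen_ratioEq 𝒜 (hg j) (hg l))
    (fun j l m V hj hl => by
      refine fval_ext 𝒜 fun x => ?_
      rw [fval_mul, fval_map, fval_map, fval_map, fval_ratioEq, fval_ratioEq, fval_ratioEq, Localization.mk_mul]
      exact Localization.mk_eq_mk_iff.2 (Localization.r_iff_exists.2 ⟨1, by simp; ring⟩))
    (fun j => fval_ext 𝒜 fun x => by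
      rw [fval_ratioEq, fval_one]
      haveI := x.1.isPrime
      exact Localization.mk_self (⟨g j, x.2⟩ : x.1.asHomogeneousIdeal.toIdeal.primeCompl))
    i σ
  refine ⟨-((k * D : ℕ) : ℤ), ?_⟩
  obtain ⟨φ, hφ⟩ := exists_hom_of_gens (tilde 𝒜 𝒜 (-((k * D : ℕ) : ℤ))) F (fun j => Proj.basicOpen 𝒜 (g j)) hcov
    (fun j => invGen 𝒜 (hg j) k) (fun j => isFreeGen_invGen 𝒜 (hg j) k) v (fun j l V hj hl c hc => by
      rw [hv j l V hj hl]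
      congr 1
      refine (isFreeGen_invGen 𝒜 (hg l) k V hl).1 ?_
      exact (invGen_change 𝒜 (hg j) (hg l) k V hj hl).symm.trans hc)
  exact ⟨φ, invGen 𝒜 (hg i) k, (hφ i).trans hvi⟩

/-- Finitely many elements of one positive degree whose standard opens cover Proj. -/
theorem exists_cover_single_degree (hfg : (HomogeneousIdeal.irrelevant 𝒜).toIdeal.FG) :
    ∃ (D : ℕ) (ι : Type u) (_ : Finite ι) (g : ι → A), 0 < D ∧ (∀ i, g i ∈ 𝒜 D) ∧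
      ∀ x : Proj 𝒜, ∃ i, g i ∉ x.asHomogeneousIdeal := by
  classical
  obtain ⟨E, hE, hspan⟩ := H11Proj.exists_finset_posHom_of_fg 𝒜 hfg
  obtain ⟨dg, hdg, hpos⟩ := H11Proj.exists_degree_fun 𝒜 hE
  refine ⟨∏ e ∈ E, dg e, (E : Set A), inferInstance, fun e => e.1 ^ ((∏ e' ∈ E, dg e') / dg e.1),
    Finset.prod_pos fun e he => hpos e he, fun e => ?_, fun x => ?_⟩
  · have := SetLike.pow_mem_graded ((∏ e' ∈ E, dg e') / dg e.1) (hdg e.1 e.2)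
    rwa [smul_eq_mul, Nat.div_mul_cancel (Finset.dvd_prod_of_mem dg (Finset.mem_coe.1 e.2))] at this
  · by_contra hne
    push Not at hne
    refine x.not_irrelevant_le (show (HomogeneousIdeal.irrelevant 𝒜).toIdeal ≤ x.asHomogeneousIdeal.toIdeal from ?_)
    rw [hspan]
    exact Ideal.span_le.2 fun e he => x.isPrime.mem_of_pow_mem _ (hne ⟨e, he⟩)

/-- Coherent modules on Proj are quotients of finite sums of twists. -/
theorem exists_epi_twists (hfg : (HomogeneousIdeal.irrelevant 𝒜).toIdeal.FG) (F : (Proj 𝒜).Modules)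
    (hF : Coh.IsCoh F) :
    ∃ (r : ℕ) (d : Fin r → ℤ) (φ : (∐ fun j : Fin r => tilde 𝒜 𝒜 (d j)) ⟶ F), Epi φ := by
  classical
  obtain ⟨D, ι, hι, g, hD, hg, hcov⟩ := exists_cover_single_degree 𝒜 hfg
  haveI : F.IsQuasicoherent := hF.1
  choose S hS using fun i => (finite_sections F hF.2 (Proj.isAffineOpen_basicOpen 𝒜 _ (hg i) hD)).fg_top
  have := Fintype.ofFinite ι
  let T := Σ i, {σ : Γ(F, Proj.basicOpen 𝒜 (g i)) // σ ∈ S i}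
  choose d φ a ha using fun t : T => exists_hom_twist 𝒜 F hF.1 hD g hg hcov t.1 t.2.1
  let e := (Fintype.equivFin T).symm
  let Φ : (∐ fun j : Fin (Fintype.card T) => tilde 𝒜 𝒜 (d (e j))) ⟶ F := Sigma.desc fun j => φ (e j)
  refine ⟨_, fun j => d (e j), Φ, epi_of_surjective_on_cover Φ hF.1 (fun i => Proj.basicOpen 𝒜 (g i))
    (fun i => Proj.isAffineOpen_basicOpen 𝒜 _ (hg i) hD) hcov fun i => ⟨S i, hS i, fun σ hσ => ?_⟩⟩
  obtain ⟨j, hj⟩ := e.surjective ⟨i, σ, hσ⟩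
  have h : ∀ t : T, t = ⟨i, σ, hσ⟩ → ∀ ψ : tilde 𝒜 𝒜 (d t) ⟶ (∐ fun j => tilde 𝒜 𝒜 (d (e j))),
      ψ ≫ Φ = φ t → ∃ b, Φ.app (Proj.basicOpen 𝒜 (g i)) b = σ := by
    rintro _ rfl ψ hψ
    exact ⟨ψ.app _ (a ⟨i, σ, hσ⟩), congr($(congrArg (fun k : tilde 𝒜 𝒜 (d ⟨i, σ, hσ⟩) ⟶ F => k.app (Proj.basicOpen 𝒜 (g i))) hψ) (a ⟨i, σ, hσ⟩)).trans
      (ha ⟨i, σ, hσ⟩)⟩
  exact h (e j) hj (Sigma.ι (fun j => tilde 𝒜 𝒜 (d (e j))) j) (Sigma.ι_desc _ _)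

end Groth.Agent.H10Coh.ProjQ
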